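import Mathlib

set_option autoImplicit false

/-! # Involutions of `PSL(2, F)`: two by two matrices of trace zero -/

namespace Cfsg.Agent.Lib.Helper6.PSL2Inv

open Matrix

variable {F : Type*} [Field F]

/-- Cayley–Hamilton for two by two matrices -/
theorem mul_self_eq (M : Matrix (Fin 2) (Fin 2) F) :
    M * M = M.trace • M - M.det • (1 : Matrix (Fin 2) (Fin 2) F) := by
  ext i j
  fin_cases i <;> fin_cases j <;>
    simp [Matrix.mul_apply, Fin.sum_univ_two, Matrix.trace_fin_two, Matrix.det_fin_two] <;> ring

/-- a matrix of trace zero and determinant one squares to minus one -/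
theorem mul_self_of_trace_zero {M : Matrix (Fin 2) (Fin 2) F} (ht : M.trace = 0) (hd : M.det = 1) :
    M * M = -1 := by
  rw [mul_self_eq, ht, hd]
  simp

/-- the anticommutator of two matrices of trace zero is a scalar -/
theorem anticomm {A B : Matrix (Fin 2) (Fin 2) F} (hA : A.trace = 0) (hB : B.trace = 0) :
    A * B + B * A = (A * B).trace • (1 : Matrix (Fin 2) (Fin 2) F) := by
  rw [Matrix.trace_fin_two] at hA hB
  have hA' : A 1 1 = -A 0 0 := by linear_combination hA
  have hB' : B 1 1 = -B 0 0 := by linear_combination hB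
  ext i j
  fin_cases i <;> fin_cases j <;>
    simp [Matrix.mul_apply, Fin.sum_univ_two, Matrix.trace_fin_two, hA', hB'] <;> ring

/-- the trace of the square -/
theorem trace_mul_self (M : Matrix (Fin 2) (Fin 2) F) :
    (M * M).trace = M.trace ^ 2 - 2 * M.det := by
  simp [Matrix.mul_apply, Fin.sum_univ_two, Matrix.trace_fin_two, Matrix.det_fin_two]
  ring

/-- the determinant of a matrix of trace zero -/
theorem det_of_trace_zero {M : Matrix (Fin 2) (Fin 2) F} (ht : M.trace = 0) :
    2 * M.det = -(M * M).trace := by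
  rw [trace_mul_self, ht]
  ring

/-- the projection onto the projective special linear group -/
def proj : Matrix.SpecialLinearGroup (Fin 2) F →* ProjectiveSpecialLinearGroup (Fin 2) F :=
  QuotientGroup.mk' _

theorem proj_surjective : Function.Surjective (proj (F := F)) :=
  QuotientGroup.mk'_surjective _

theorem proj_eq_one_iff (A : Matrix.SpecialLinearGroup (Fin 2) F) :
    proj A = 1 ↔ (A : Matrix (Fin 2) (Fin 2) F) = 1 ∨ (A : Matrix (Fin 2) (Fin 2) F) = -1 := by
  unfold proj
  rw [QuotientGroup.mk'_apply, QuotientGroup.eq_one_iff, Matrix.SpecialLinearGroup.mem_center_iff]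
  constructor
  · rintro ⟨r, hr, hrA⟩
    rw [Fintype.card_fin] at hr
    have h1 : (r - 1) * (r + 1) = 0 := by linear_combination hr
    rcases mul_eq_zero.mp h1 with h | h
    · left
      have : r = 1 := by linear_combination h
      rw [← hrA, this]
      simp
    · right
      have : r = -1 := by linear_combination h
      rw [← hrA, this, map_neg, map_one]
  · rintro (h | h)
    · exact ⟨1, by simp, by rw [h]; simp⟩
    · refine ⟨-1, by simp, ?_⟩
      rw [h, map_neg, map_one]

/-- the lift of an involution: trace zero, not a scalar -/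
def IsInv (A : Matrix.SpecialLinearGroup (Fin 2) F) : Prop :=
  (A : Matrix (Fin 2) (Fin 2) F).trace = 0 ∧ (A : Matrix (Fin 2) (Fin 2) F) ≠ 1 ∧
    (A : Matrix (Fin 2) (Fin 2) F) ≠ -1

theorem IsInv.mul_self {A : Matrix.SpecialLinearGroup (Fin 2) F} (h : IsInv A) :
    (A : Matrix (Fin 2) (Fin 2) F) * (A : Matrix (Fin 2) (Fin 2) F) = -1 :=
  mul_self_of_trace_zero h.1 A.2

/-- the image of a lift of an involution is an involution -/
theorem IsInv.orderOf_proj {A : Matrix.SpecialLinearGroup (Fin 2) F} (h : IsInv A) :
    orderOf (proj A) = 2 := by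
  apply orderOf_eq_prime
  · rw [pow_two, ← map_mul, proj_eq_one_iff]
    right
    rw [Matrix.SpecialLinearGroup.coe_mul]
    exact h.mul_self
  · rw [Ne, proj_eq_one_iff]
    rintro (h1 | h1)
    · exact h.2.1 h1
    · exact h.2.2 h1

/-- every involution has such a lift -/
theorem exists_isInv {t : Matrix.ProjectiveSpecialLinearGroup (Fin 2) F} (ht : orderOf t = 2) :
    ∃ A : Matrix.SpecialLinearGroup (Fin 2) F, proj A = t ∧ IsInv A := by
  obtain ⟨A, rfl⟩ := proj_surjective t
  refine ⟨A, rfl, ?_⟩
  have h1 : proj A ≠ 1 := by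
    intro h
    rw [h, orderOf_one] at ht
    exact absurd ht (by norm_num)
  have h2 : proj A ^ 2 = 1 := by
    have := pow_orderOf_eq_one (proj A)
    rwa [ht] at this
  rw [Ne, proj_eq_one_iff, not_or] at h1
  rw [pow_two, ← map_mul, proj_eq_one_iff, Matrix.SpecialLinearGroup.coe_mul, mul_self_eq, A.2,
    one_smul] at h2
  refine ⟨?_, h1.1, h1.2⟩
  by_contra htr
  rcases h2 with h2 | h2
  · have h3 : (A : Matrix (Fin 2) (Fin 2) F) =
        ((A : Matrix (Fin 2) (Fin 2) F).trace)⁻¹ • ((2 : F) • (1 : Matrix (Fin 2) (Fin 2) F)) := by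
      rw [eq_inv_smul_iff₀ htr]
      rw [sub_eq_iff_eq_add] at h2
      rw [h2, two_smul]
    have h00 := congrFun (congrFun h3 0) 0
    have h11 := congrFun (congrFun h3 1) 1
    have h01 := congrFun (congrFun h3 0) 1
    have h10 := congrFun (congrFun h3 1) 0
    simp at h00 h11 h01 h10
    have hd := A.2
    rw [Matrix.det_fin_two, h01, h10] at hd
    have hsame : (A : Matrix (Fin 2) (Fin 2) F) 0 0 = (A : Matrix (Fin 2) (Fin 2) F) 1 1 := by
      rw [h00, h11]
    have hsq : ((A : Matrix (Fin 2) (Fin 2) F) 0 0 - 1) * ((A : Matrix (Fin 2) (Fin 2) F) 0 0 + 1)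
        = 0 := by
      rw [← hsame] at hd
      linear_combination hd
    rcases mul_eq_zero.mp hsq with h | h
    · apply h1.1
      ext i j
      fin_cases i <;> fin_cases j
      · simpa using (by linear_combination h : (A : Matrix (Fin 2) (Fin 2) F) 0 0 = 1)
      · simpa using h01
      · simpa using h10
      · simpa using (by linear_combination h - hsame :
          (A : Matrix (Fin 2) (Fin 2) F) 1 1 = 1)
    · apply h1.2
      ext i j
      fin_cases i <;> fin_cases j
      · simpa using (by linear_combination h : (A : Matrix (Fin 2) (Fin 2) F) 0 0 = -1)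
      · simpa using h01
      · simpa using h10
      · simpa using (by linear_combination h - hsame :
          (A : Matrix (Fin 2) (Fin 2) F) 1 1 = -1)
  · have h3 : ((A : Matrix (Fin 2) (Fin 2) F).trace) • (A : Matrix (Fin 2) (Fin 2) F) = 0 := by
      rw [sub_eq_iff_eq_add] at h2
      rw [h2]
      simp
    rw [smul_eq_zero] at h3
    rcases h3 with h3 | h3
    · exact htr h3
    · have hd := A.2
      rw [h3] at hd
      simp at hd

end Cfsg.Agent.Lib.Helper6.PSL2Inv
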