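import Cfsg.Agent.Lib.Helper6.PSL2Inv.Conj

set_option autoImplicit false

/-! # Characteristic two: any two involutions have a common neighbour -/

namespace Cfsg.Agent.Lib.Helper6.PSL2Inv

open Matrix

variable {F : Type*} [Field F]

theorem two_eq_zero_of_charP [CharP F 2] : (2 : F) = 0 := by
  have := CharP.cast_eq_zero F 2
  exact_mod_cast this

/-- in characteristic two, an element of nonzero trace has an image of odd order -/
theorem odd_orderOf_proj_of_trace_ne_zero [Finite F] [CharP F 2]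
    {M : Matrix.SpecialLinearGroup (Fin 2) F}
    (ht : (M : Matrix (Fin 2) (Fin 2) F).trace ≠ 0) : Odd (orderOf (proj M)) :=
  Odd.of_dvd_nat (odd_orderOf_of_trace_ne_zero ht) (orderOf_map_dvd proj M)

/-- the three test involutions in characteristic two -/
def T1 [CharP F 2] : Matrix.SpecialLinearGroup (Fin 2) F :=
  ⟨!![1, 1; 0, 1], by simp [Matrix.det_fin_two_of]⟩

def T2 [CharP F 2] : Matrix.SpecialLinearGroup (Fin 2) F :=
  ⟨!![1, 0; 1, 1], by simp [Matrix.det_fin_two_of]⟩

theorem isInv_T1 [CharP F 2] : IsInv (T1 : Matrix.SpecialLinearGroup (Fin 2) F) := by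
  refine ⟨?_, ?_, ?_⟩
  · show (!![1, 1; 0, 1] : Matrix (Fin 2) (Fin 2) F).trace = 0
    rw [Matrix.trace_fin_two_of, one_add_one_eq_two, two_eq_zero_of_charP]
  · intro h
    have := congrFun (congrFun h 0) 1
    simp [T1] at this
  · intro h
    have := congrFun (congrFun h 0) 1
    simp [T1] at this

theorem isInv_T2 [CharP F 2] : IsInv (T2 : Matrix.SpecialLinearGroup (Fin 2) F) := by
  refine ⟨?_, ?_, ?_⟩
  · show (!![1, 0; 1, 1] : Matrix (Fin 2) (Fin 2) F).trace = 0
    rw [Matrix.trace_fin_two_of, one_add_one_eq_two, two_eq_zero_of_charP]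
  · intro h
    have := congrFun (congrFun h 1) 0
    simp [T2] at this
  · intro h
    have := congrFun (congrFun h 1) 0
    simp [T2] at this

theorem isInv_Jm_of_char_two [CharP F 2] : IsInv (Jm : Matrix.SpecialLinearGroup (Fin 2) F) := by
  refine ⟨?_, ?_, ?_⟩
  · rw [Jm_coe, Matrix.trace_fin_two_of, add_zero]
  · intro h
    have := congrFun (congrFun h 1) 0
    simp [Jm_coe] at this
  · intro h
    have := congrFun (congrFun h 1) 0
    simp [Jm_coe] at this

/-- off-diagonal entries of an involution in characteristic two do not both vanish -/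
theorem IsInv.offdiag [CharP F 2] {A : Matrix.SpecialLinearGroup (Fin 2) F} (hA : IsInv A) :
    (A : Matrix (Fin 2) (Fin 2) F) 0 1 ≠ 0 ∨ (A : Matrix (Fin 2) (Fin 2) F) 1 0 ≠ 0 := by
  by_contra hcon
  push Not at hcon
  obtain ⟨hb, hc⟩ := hcon
  have h2 : (2 : F) = 0 := two_eq_zero_of_charP
  have htr := hA.1
  rw [Matrix.trace_fin_two] at htr
  have h11 : (A : Matrix (Fin 2) (Fin 2) F) 1 1 = -(A : Matrix (Fin 2) (Fin 2) F) 0 0 := by
    linear_combination htr
  have hdet := A.2
  rw [Matrix.det_fin_two, h11, hb, hc] at hdet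
  have h3 : ((A : Matrix (Fin 2) (Fin 2) F) 0 0 - 1) * ((A : Matrix (Fin 2) (Fin 2) F) 0 0 - 1)
      = 0 := by
    linear_combination -hdet - (A : Matrix (Fin 2) (Fin 2) F) 0 0 * h2
  have h4 : (A : Matrix (Fin 2) (Fin 2) F) 0 0 = 1 := by
    rcases mul_eq_zero.mp h3 with h | h <;> linear_combination h
  apply hA.2.1
  ext i j
  fin_cases i <;> fin_cases j
  · simpa using h4
  · simpa using hb
  · simpa using hc
  · simp only [Fin.mk_one, Fin.isValue, one_apply_eq]
    rw [h11, h4]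
    linear_combination -h2

theorem trace_mul_T1 [CharP F 2] {A : Matrix.SpecialLinearGroup (Fin 2) F} (hA : IsInv A) :
    ((A * T1 : Matrix.SpecialLinearGroup (Fin 2) F) : Matrix (Fin 2) (Fin 2) F).trace =
      (A : Matrix (Fin 2) (Fin 2) F) 1 0 := by
  have htr := hA.1
  rw [Matrix.trace_fin_two] at htr
  rw [Matrix.SpecialLinearGroup.coe_mul]
  simp [T1, Matrix.trace_fin_two, Matrix.mul_apply, Fin.sum_univ_two]
  linear_combination htr

theorem trace_mul_T2 [CharP F 2] {A : Matrix.SpecialLinearGroup (Fin 2) F} (hA : IsInv A) :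
    ((A * T2 : Matrix.SpecialLinearGroup (Fin 2) F) : Matrix (Fin 2) (Fin 2) F).trace =
      (A : Matrix (Fin 2) (Fin 2) F) 0 1 := by
  have htr := hA.1
  rw [Matrix.trace_fin_two] at htr
  rw [Matrix.SpecialLinearGroup.coe_mul]
  simp [T2, Matrix.trace_fin_two, Matrix.mul_apply, Fin.sum_univ_two]
  linear_combination htr

theorem trace_mul_Jm {A : Matrix.SpecialLinearGroup (Fin 2) F} :
    ((A * Jm : Matrix.SpecialLinearGroup (Fin 2) F) : Matrix (Fin 2) (Fin 2) F).trace =
      (A : Matrix (Fin 2) (Fin 2) F) 0 1 - (A : Matrix (Fin 2) (Fin 2) F) 1 0 := by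
  rw [Matrix.SpecialLinearGroup.coe_mul, Jm_coe]
  simp [Matrix.trace_fin_two, Matrix.mul_apply, Fin.sum_univ_two]
  ring

theorem trace_mul_comm_SL (A B : Matrix.SpecialLinearGroup (Fin 2) F) :
    ((A * B : Matrix.SpecialLinearGroup (Fin 2) F) : Matrix (Fin 2) (Fin 2) F).trace =
      ((B * A : Matrix.SpecialLinearGroup (Fin 2) F) : Matrix (Fin 2) (Fin 2) F).trace := by
  rw [Matrix.SpecialLinearGroup.coe_mul, Matrix.SpecialLinearGroup.coe_mul, Matrix.trace_mul_comm]

/-- **characteristic two**: any two involutions have a common neighbour -/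
theorem exists_common_char_two [Finite F] [CharP F 2]
    {A B : Matrix.SpecialLinearGroup (Fin 2) F} (hA : IsInv A) (hB : IsInv B) :
    ∃ C : Matrix.SpecialLinearGroup (Fin 2) F, IsInv C ∧ Odd (orderOf (proj (A * C))) ∧
      Odd (orderOf (proj (C * B))) := by
  by_cases h1 : (A : Matrix (Fin 2) (Fin 2) F) 1 0 ≠ 0 ∧ (B : Matrix (Fin 2) (Fin 2) F) 1 0 ≠ 0
  · refine ⟨T1, isInv_T1, odd_orderOf_proj_of_trace_ne_zero ?_,
      odd_orderOf_proj_of_trace_ne_zero ?_⟩
    · rw [trace_mul_T1 hA]; exact h1.1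
    · rw [trace_mul_comm_SL, trace_mul_T1 hB]; exact h1.2
  by_cases h2 : (A : Matrix (Fin 2) (Fin 2) F) 0 1 ≠ 0 ∧ (B : Matrix (Fin 2) (Fin 2) F) 0 1 ≠ 0
  · refine ⟨T2, isInv_T2, odd_orderOf_proj_of_trace_ne_zero ?_,
      odd_orderOf_proj_of_trace_ne_zero ?_⟩
    · rw [trace_mul_T2 hA]; exact h2.1
    · rw [trace_mul_comm_SL, trace_mul_T2 hB]; exact h2.2
  refine ⟨Jm, isInv_Jm_of_char_two, odd_orderOf_proj_of_trace_ne_zero ?_,
      odd_orderOf_proj_of_trace_ne_zero ?_⟩
  · rw [trace_mul_Jm]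
    rcases hA.offdiag with ha | ha
    · have hb : (B : Matrix (Fin 2) (Fin 2) F) 0 1 = 0 := by
        by_contra hb; exact h2 ⟨ha, hb⟩
      have hb' : (B : Matrix (Fin 2) (Fin 2) F) 1 0 ≠ 0 := by
        rcases hB.offdiag with h | h
        · exact absurd hb h
        · exact h
      have ha' : (A : Matrix (Fin 2) (Fin 2) F) 1 0 = 0 := by
        by_contra ha'; exact h1 ⟨ha', hb'⟩
      rw [ha', sub_zero]; exact ha
    · have hb : (B : Matrix (Fin 2) (Fin 2) F) 1 0 = 0 := by
        by_contra hb; exact h1 ⟨ha, hb⟩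
      have hb' : (B : Matrix (Fin 2) (Fin 2) F) 0 1 ≠ 0 := by
        rcases hB.offdiag with h | h
        · exact h
        · exact absurd hb h
      have ha' : (A : Matrix (Fin 2) (Fin 2) F) 0 1 = 0 := by
        by_contra ha'; exact h2 ⟨ha', hb'⟩
      rw [ha', zero_sub, neg_ne_zero]; exact ha
  · rw [trace_mul_comm_SL, trace_mul_Jm]
    rcases hB.offdiag with hb | hb
    · have ha : (A : Matrix (Fin 2) (Fin 2) F) 0 1 = 0 := by
        by_contra ha; exact h2 ⟨ha, hb⟩
      have ha' : (A : Matrix (Fin 2) (Fin 2) F) 1 0 ≠ 0 := by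
        rcases hA.offdiag with h | h
        · exact absurd ha h
        · exact h
      have hb' : (B : Matrix (Fin 2) (Fin 2) F) 1 0 = 0 := by
        by_contra hb'; exact h1 ⟨ha', hb'⟩
      rw [hb', sub_zero]; exact hb
    · have ha : (A : Matrix (Fin 2) (Fin 2) F) 1 0 = 0 := by
        by_contra ha; exact h1 ⟨ha, hb⟩
      have ha' : (A : Matrix (Fin 2) (Fin 2) F) 0 1 ≠ 0 := by
        rcases hA.offdiag with h | h
        · exact h
        · exact absurd ha h
      have hb' : (B : Matrix (Fin 2) (Fin 2) F) 0 1 = 0 := by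
        by_contra hb'; exact h2 ⟨ha', hb'⟩
      rw [hb', zero_sub, neg_ne_zero]; exact hb

end Cfsg.Agent.Lib.Helper6.PSL2Inv
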