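import Cfsg.Agent.Lib.Helper6.PSL2Inv.Pair

set_option autoImplicit false

/-! # A sum of quadratic characters, and a pair of field elements -/

namespace Cfsg.Agent.Lib.Helper6.PSL2Inv

variable {F : Type*} [Field F] [Fintype F] [DecidableEq F]

/-- the number of points of a conic -/
theorem card_conic (h2 : (2 : F) ≠ 0) (σ : F) (hσ : σ ^ 2 - 4 ≠ 0) :
    ((Finset.univ : Finset (F × F)).filter (fun p => p.2 ^ 2 = p.1 ^ 2 + σ * p.1 + 1)).card =
      Fintype.card F - 1 := by
  have h4 : (4 : F) ≠ 0 := by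
    have : (4 : F) = 2 * 2 := by norm_num
    rw [this]
    exact mul_ne_zero h2 h2
  have hκ : (1 - σ ^ 2 / 4 : F) ≠ 0 := by
    intro h
    apply hσ
    field_simp at h
    linear_combination -h
  have hT : ((Finset.univ : Finset F).filter (fun m => m ≠ 0)).card = Fintype.card F - 1 := by
    rw [Finset.filter_ne', Finset.card_erase_of_mem (Finset.mem_univ _), Finset.card_univ]
  rw [← hT]
  refine Finset.card_nbij' (fun p => p.2 - p.1 - σ / 2)
    (fun m => (((1 - σ ^ 2 / 4) / m - m) / 2 - σ / 2, (m + (1 - σ ^ 2 / 4) / m) / 2)) ?_ ?_ ?_ ?_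
  · intro p hp
    simp only [Finset.coe_filter, Finset.mem_univ, true_and, Set.mem_ofPred_eq] at hp ⊢
    intro h0
    apply hκ
    have : (p.2 - p.1 - σ / 2) * (p.2 + p.1 + σ / 2) = 1 - σ ^ 2 / 4 := by
      field_simp
      linear_combination 16 * hp
    rw [← this, h0, zero_mul]
  · intro m hm
    simp only [Finset.coe_filter, Finset.mem_univ, true_and, Set.mem_ofPred_eq] at hm ⊢
    field_simp
    ring
  · intro p hp
    simp only [Finset.coe_filter, Finset.mem_univ, true_and, Set.mem_ofPred_eq] at hp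
    have hm : p.2 - p.1 - σ / 2 ≠ 0 := by
      intro h0
      apply hκ
      have : (p.2 - p.1 - σ / 2) * (p.2 + p.1 + σ / 2) = 1 - σ ^ 2 / 4 := by
        field_simp
        linear_combination 16 * hp
      rw [← this, h0, zero_mul]
    have hdiv : (1 - σ ^ 2 / 4) / (p.2 - p.1 - σ / 2) = p.2 + p.1 + σ / 2 := by
      rw [div_eq_iff hm]
      field_simp
      linear_combination -16 * hp
    ext
    · simp only [hdiv]
      field_simp
      ring
    · simp only [hdiv]
      field_simp
      ring
  · intro m hm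
    simp only [Finset.coe_filter, Finset.mem_univ, true_and, Set.mem_ofPred_eq] at hm
    simp only
    field_simp
    ring

/-- the sum of the quadratic character over the values of a quadratic polynomial -/
theorem sum_quadChar (hF : ringChar F ≠ 2) (σ : F) (hσ : σ ^ 2 - 4 ≠ 0) :
    ∑ t : F, quadraticChar F (t ^ 2 + σ * t + 1) = -1 := by
  have h2 : (2 : F) ≠ 0 := Ring.two_ne_zero hF
  have h1 : ∀ t : F, quadraticChar F (t ^ 2 + σ * t + 1) + 1 =
      (((Finset.univ : Finset F).filter (fun s => s ^ 2 = t ^ 2 + σ * t + 1)).card : ℤ) := by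
    intro t
    rw [← quadraticChar_card_sqrts hF]
    congr 2
    ext s
    simp
  have h3 : ∑ t : F, (((Finset.univ : Finset F).filter
      (fun s => s ^ 2 = t ^ 2 + σ * t + 1)).card : ℤ) = (Fintype.card F : ℤ) - 1 := by
    have hc := card_conic h2 σ hσ
    rw [Finset.card_filter, Fintype.sum_prod_type] at hc
    have hpos : 1 ≤ Fintype.card F := Fintype.card_pos
    have hc' := congrArg (Nat.cast : ℕ → ℤ) hc
    push_cast [Nat.cast_sub hpos] at hc'
    rw [← hc']
    apply Finset.sum_congr rfl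
    intro t _
    rw [Finset.card_filter]
    push_cast
    rfl
  have h4 : ∑ t : F, (quadraticChar F (t ^ 2 + σ * t + 1) + 1) = (Fintype.card F : ℤ) - 1 := by
    rw [← h3]
    exact Finset.sum_congr rfl (fun t _ => h1 t)
  rw [Finset.sum_add_distrib, Finset.sum_const, Finset.card_univ] at h4
  simp only [nsmul_eq_mul, mul_one] at h4
  linarith

/-- a quadratic polynomial with non-square discriminant has no roots -/
theorem quad_ne_zero {σ : F} (hσ : ¬IsSquare (σ ^ 2 - 4)) (t : F) : t ^ 2 + σ * t + 1 ≠ 0 := by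
  intro h
  apply hσ
  exact ⟨2 * t + σ, by linear_combination -4 * h⟩

/-- **the pair of field elements** used to build a common neighbour -/
theorem exists_pair (hF : ringChar F ≠ 2) (hq : 3 < Fintype.card F) (hm1 : ¬IsSquare (-1 : F))
    (σ : F) (hσ : ¬IsSquare (σ ^ 2 - 4)) :
    ∃ a b : F, a ≠ 0 ∧ b ≠ 0 ∧ IsSquare (a * b) ∧
      ¬IsSquare ((a ^ 2 + σ * a + 1) * (b ^ 2 + σ * b + 1)) := by
  by_contra hcon
  push Not at hcon
  have hσ0 : σ ^ 2 - 4 ≠ 0 := by
    intro h
    apply hσ
    rw [h]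
    exact IsSquare.zero
  have hχm1 : quadraticChar F (-1) = -1 := quadraticChar_neg_one_iff_not_isSquare.mpr hm1
  have hφ := quad_ne_zero hσ
  obtain ⟨c1, hc1⟩ : ∃ c1 : ℤ, c1 = quadraticChar F ((1 : F) ^ 2 + σ * 1 + 1) := ⟨_, rfl⟩
  obtain ⟨c2, hc2⟩ : ∃ c2 : ℤ, c2 = quadraticChar F ((-1 : F) ^ 2 + σ * (-1) + 1) := ⟨_, rfl⟩
  have hc1' : c1 = 1 ∨ c1 = -1 := by rw [hc1]; exact quadraticChar_dichotomy (hφ 1)
  have hc2' : c2 = 1 ∨ c2 = -1 := by rw [hc2]; exact quadraticChar_dichotomy (hφ (-1))
  -- the character of the values is determined by the square class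
  have hkey : ∀ a : F, a ≠ 0 → 2 * quadraticChar F (a ^ 2 + σ * a + 1) =
      (c1 + c2) + quadraticChar F a * (c1 - c2) := by
    intro a ha
    rcases quadraticChar_dichotomy ha with h | h
    · have hsq : IsSquare (a * 1) := by
        rw [mul_one]; exact (quadraticChar_one_iff_isSquare ha).mp h
      have h3 := hcon a 1 ha one_ne_zero hsq
      rw [← quadraticChar_one_iff_isSquare (mul_ne_zero (hφ a) (hφ 1)), map_mul, ← hc1] at h3
      have h4 : quadraticChar F (a ^ 2 + σ * a + 1) = c1 := by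
        rcases hc1' with h5 | h5 <;> rw [h5] at h3 ⊢ <;> linarith
      rw [h, h4]
      ring
    · have hsq : IsSquare (a * (-1)) := by
        rw [← quadraticChar_one_iff_isSquare (mul_ne_zero ha (neg_ne_zero.mpr one_ne_zero)),
          map_mul, h, hχm1]
        norm_num
      have h3 := hcon a (-1) ha (neg_ne_zero.mpr one_ne_zero) hsq
      rw [← quadraticChar_one_iff_isSquare (mul_ne_zero (hφ a) (hφ (-1))), map_mul, ← hc2] at h3
      have h4 : quadraticChar F (a ^ 2 + σ * a + 1) = c2 := by
        rcases hc2' with h5 | h5 <;> rw [h5] at h3 ⊢ <;> linarith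
      rw [h, h4]
      ring
  -- summing over the field
  have hsum : ∑ a : F, (2 * quadraticChar F (a ^ 2 + σ * a + 1) -
      ((c1 + c2) + quadraticChar F a * (c1 - c2))) = 2 - (c1 + c2) := by
    rw [Finset.sum_eq_single (0 : F)]
    · simp
    · intro a _ ha
      rw [hkey a ha, sub_self]
    · intro h
      exact absurd (Finset.mem_univ _) h
  rw [Finset.sum_sub_distrib, ← Finset.mul_sum, sum_quadChar hF σ hσ0, Finset.sum_add_distrib,
    Finset.sum_const, ← Finset.sum_mul, quadraticChar_sum_zero hF, Finset.card_univ] at hsum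
  simp only [nsmul_eq_mul, zero_mul, add_zero] at hsum
  have hq' : (3 : ℤ) < (Fintype.card F : ℤ) := by exact_mod_cast hq
  rcases hc1' with h5 | h5 <;> rcases hc2' with h6 | h6 <;> rw [h5, h6] at hsum <;> nlinarith

end Cfsg.Agent.Lib.Helper6.PSL2Inv
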