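import Cfsg.Agent.Lib.Helper6.PSL2Inv.Order

set_option autoImplicit false

/-! # All involutions of `PSL(2, F)` are conjugate -/

namespace Cfsg.Agent.Lib.Helper6.PSL2Inv

open Matrix

variable {F : Type*} [Field F]

/-- every element of a finite field is a sum of two squares -/
theorem exists_sq_add_sq [Fintype F] (c : F) : ∃ x y : F, x ^ 2 + y ^ 2 = c := by
  by_cases hF : ringChar F = 2
  · obtain ⟨r, hr⟩ := FiniteField.isSquare_of_char_two hF c
    exact ⟨r, 0, by rw [hr]; ring⟩
  · have hodd := FiniteField.odd_card_of_char_ne_two hF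
    obtain ⟨x, y, hxy⟩ := FiniteField.exists_root_sum_quadratic
      (f := (Polynomial.X ^ 2 : Polynomial F)) (g := Polynomial.X ^ 2 - Polynomial.C c)
      (Polynomial.degree_X_pow 2) (Polynomial.degree_X_pow_sub_C (by norm_num) c) hodd
    refine ⟨x, y, ?_⟩
    simp only [Polynomial.eval_pow, Polynomial.eval_X, Polynomial.eval_sub, Polynomial.eval_C]
      at hxy
    linear_combination hxy

/-- the standard involution -/
def Jm : Matrix.SpecialLinearGroup (Fin 2) F :=
  ⟨!![0, -1; 1, 0], by simp [Matrix.det_fin_two_of]⟩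

theorem Jm_coe : ((Jm : Matrix.SpecialLinearGroup (Fin 2) F) : Matrix (Fin 2) (Fin 2) F) =
    !![0, -1; 1, 0] := rfl

/-- a matrix of trace zero and determinant one which is not `±1` is conjugate to the standard
involution under the special linear group -/
theorem exists_conj_Jm [Fintype F] {A : Matrix (Fin 2) (Fin 2) F} (htr : A.trace = 0)
    (hdet : A.det = 1) (h1 : A ≠ 1) (_hm1 : A ≠ -1) :
    ∃ P : Matrix (Fin 2) (Fin 2) F, P.det = 1 ∧ A * P = P * !![0, -1; 1, 0] := by
  rw [Matrix.trace_fin_two] at htr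
  have h11 : A 1 1 = -A 0 0 := by linear_combination htr
  rw [Matrix.det_fin_two, h11] at hdet
  -- a vector which is not an eigenvector
  obtain ⟨v1, v2, hd⟩ : ∃ v1 v2 : F,
      A 1 0 * v1 ^ 2 - 2 * A 0 0 * v1 * v2 - A 0 1 * v2 ^ 2 ≠ 0 := by
    by_cases hc : A 1 0 = 0
    · by_cases hb : A 0 1 = 0
      · refine ⟨1, 1, ?_⟩
        rw [hc, hb]
        intro h
        have h2a : 2 * A 0 0 = 0 := by linear_combination -h
        rw [hc, hb] at hdet
        by_cases h2 : (2 : F) = 0
        · have h3 : (A 0 0 - 1) * (A 0 0 - 1) = 0 := by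
            linear_combination -hdet - A 0 0 * h2
          have h4 : A 0 0 = 1 := by
            rcases mul_eq_zero.mp h3 with h | h <;> linear_combination h
          apply h1
          ext i j
          fin_cases i <;> fin_cases j
          · simpa using h4
          · simpa using hb
          · simpa using hc
          · simp only [Fin.mk_one, Fin.isValue, one_apply_eq]
            rw [h11, h4]
            linear_combination -h2
        · have h4 : A 0 0 = 0 := by
            rcases mul_eq_zero.mp h2a with h | h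
            · exact absurd h h2
            · exact h
          rw [h4] at hdet
          simp at hdet
      · exact ⟨0, 1, by simpa using hb⟩
    · exact ⟨1, 0, by simpa using hc⟩
  obtain ⟨x, y, hxy⟩ := exists_sq_add_sq
    (A 1 0 * v1 ^ 2 - 2 * A 0 0 * v1 * v2 - A 0 1 * v2 ^ 2)⁻¹
  refine ⟨!![v1, A 0 0 * v1 + A 0 1 * v2; v2, A 1 0 * v1 - A 0 0 * v2] * !![x, -y; y, x], ?_, ?_⟩
  · rw [Matrix.det_mul, Matrix.det_fin_two_of, Matrix.det_fin_two_of]
    have : (v1 * (A 1 0 * v1 - A 0 0 * v2) - (A 0 0 * v1 + A 0 1 * v2) * v2) =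
        A 1 0 * v1 ^ 2 - 2 * A 0 0 * v1 * v2 - A 0 1 * v2 ^ 2 := by ring
    rw [this, show x * x - -y * y = x ^ 2 + y ^ 2 by ring, hxy, mul_inv_cancel₀ hd]
  · conv_lhs => rw [Matrix.eta_fin_two A, h11]
    simp only [Matrix.mul_fin_two]
    ext i j
    fin_cases i <;> fin_cases j <;> simp
    · linear_combination (-v1 * y) * hdet
    · linear_combination (-v1 * x) * hdet
    · linear_combination (-v2 * y) * hdet
    · linear_combination (-v2 * x) * hdet

/-- the order of a conjugate -/
theorem orderOf_conj_eq {G : Type*} [Group G] (g t : G) : orderOf (g * t * g⁻¹) = orderOf t := by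
  have h : SemiconjBy g t (g * t * g⁻¹) := by
    unfold SemiconjBy
    group
  exact (h.orderOf_eq g).symm

/-- a lift of an involution is conjugate to the standard involution -/
theorem IsInv.exists_conj_Jm [Fintype F] {A : Matrix.SpecialLinearGroup (Fin 2) F} (hA : IsInv A) :
    ∃ P : Matrix.SpecialLinearGroup (Fin 2) F, A = P * Jm * P⁻¹ := by
  obtain ⟨P, hP, hAP⟩ := PSL2Inv.exists_conj_Jm hA.1 A.2 hA.2.1 hA.2.2
  obtain ⟨P', rfl⟩ : ∃ P' : Matrix.SpecialLinearGroup (Fin 2) F,
      (P' : Matrix (Fin 2) (Fin 2) F) = P := ⟨⟨P, hP⟩, rfl⟩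
  refine ⟨P', ?_⟩
  rw [eq_mul_inv_iff_mul_eq]
  apply Subtype.ext
  rw [Matrix.SpecialLinearGroup.coe_mul, Matrix.SpecialLinearGroup.coe_mul, Jm_coe]
  exact hAP

/-- any two lifts of involutions are conjugate in the special linear group -/
theorem IsInv.exists_conj [Fintype F] {A C : Matrix.SpecialLinearGroup (Fin 2) F} (hA : IsInv A)
    (hC : IsInv C) : ∃ P : Matrix.SpecialLinearGroup (Fin 2) F, P * A * P⁻¹ = C := by
  obtain ⟨P, hP⟩ := hA.exists_conj_Jm
  obtain ⟨Q, hQ⟩ := hC.exists_conj_Jm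
  refine ⟨Q * P⁻¹, ?_⟩
  rw [hP, hQ]
  group

/-- the images of any two lifts of involutions are conjugate -/
theorem IsInv.isConj [Fintype F] {A C : Matrix.SpecialLinearGroup (Fin 2) F} (hA : IsInv A)
    (hC : IsInv C) : IsConj (proj A) (proj C) := by
  obtain ⟨P, hP⟩ := hA.exists_conj hC
  rw [isConj_iff]
  exact ⟨proj P, by rw [← map_mul, ← map_inv, ← map_mul, hP]⟩

/-- conjugates of lifts of involutions are lifts of involutions -/
theorem IsInv.conj {A : Matrix.SpecialLinearGroup (Fin 2) F} (hA : IsInv A)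
    (P : Matrix.SpecialLinearGroup (Fin 2) F) : IsInv (P * A * P⁻¹) := by
  have hinv : (P : Matrix (Fin 2) (Fin 2) F) *
      ((P⁻¹ : Matrix.SpecialLinearGroup (Fin 2) F) : Matrix (Fin 2) (Fin 2) F) = 1 := by
    rw [← Matrix.SpecialLinearGroup.coe_mul, mul_inv_cancel, Matrix.SpecialLinearGroup.coe_one]
  have hinv' : ((P⁻¹ : Matrix.SpecialLinearGroup (Fin 2) F) : Matrix (Fin 2) (Fin 2) F) *
      (P : Matrix (Fin 2) (Fin 2) F) = 1 := by
    rw [← Matrix.SpecialLinearGroup.coe_mul, inv_mul_cancel, Matrix.SpecialLinearGroup.coe_one]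
  refine ⟨?_, ?_, ?_⟩
  · rw [Matrix.SpecialLinearGroup.coe_mul, Matrix.SpecialLinearGroup.coe_mul,
      Matrix.trace_mul_comm, ← mul_assoc, hinv', one_mul]
    exact hA.1
  · intro h
    apply hA.2.1
    have : A = P⁻¹ * (P * A * P⁻¹) * P := by group
    rw [this, Matrix.SpecialLinearGroup.coe_mul, Matrix.SpecialLinearGroup.coe_mul, h, mul_one,
      hinv']
  · intro h
    apply hA.2.2
    have : A = P⁻¹ * (P * A * P⁻¹) * P := by group
    rw [this, Matrix.SpecialLinearGroup.coe_mul, Matrix.SpecialLinearGroup.coe_mul, h, mul_neg,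
      mul_one, neg_mul, hinv']

/-- a lift of any conjugate of an involution -/
theorem exists_isInv_of_isConj [Fintype F] {t z : Matrix.ProjectiveSpecialLinearGroup (Fin 2) F}
    (ht : orderOf t = 2) (hz : IsConj t z) :
    ∃ C : Matrix.SpecialLinearGroup (Fin 2) F, proj C = z ∧ IsInv C := by
  apply exists_isInv
  obtain ⟨g, hg⟩ := isConj_iff.mp hz
  rw [← hg, orderOf_conj_eq, ht]

end Cfsg.Agent.Lib.Helper6.PSL2Inv
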