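import Cfsg.Agent.Lib.Helper6.PSL2Inv.Pair

set_option autoImplicit false

/-! # Odd characteristic, `-1` a square: any two involutions have a common neighbour -/

namespace Cfsg.Agent.Lib.Helper6.PSL2Inv

open Matrix

variable {F : Type*} [Field F]

/-- an element whose trace is `±2` has an image of odd order -/
theorem odd_of_trace_sq_four [Fintype F] (h2 : (2 : F) ≠ 0)
    {M : Matrix.SpecialLinearGroup (Fin 2) F}
    (h : (M : Matrix (Fin 2) (Fin 2) F).trace ^ 2 = 4) : Odd (orderOf (proj M)) := by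
  haveI : Fact (ringChar F).Prime := ⟨CharP.char_is_prime F (ringChar F)⟩
  have hp2 : ringChar F ≠ 2 := by
    intro hp
    apply h2
    have := CharP.cast_eq_zero F (ringChar F)
    rw [hp] at this
    exact_mod_cast this
  have hodd : Odd (ringChar F) := (Fact.out : (ringChar F).Prime).odd_of_ne_two hp2
  exact odd_orderOf_proj hodd
    (pow_char_of_trace_sq M.2 h (ringChar F) (Fact.out : (ringChar F).Prime).ne_zero hodd)

/-- the image of the square of a lift of an involution -/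
theorem IsInv.odd_self {B : Matrix.SpecialLinearGroup (Fin 2) F} (hB : IsInv B) :
    Odd (orderOf (proj (B * B))) := by
  have : proj (B * B) = 1 := by
    rw [proj_eq_one_iff, Matrix.SpecialLinearGroup.coe_mul]
    right
    exact hB.mul_self
  rw [this, orderOf_one]
  exact odd_one

/-- **`-1` a square**: any two involutions have a common neighbour -/
theorem exists_common_of_neg_one_sq [Fintype F] (h2 : (2 : F) ≠ 0) {i : F} (hi : i * i = -1)
    {A B : Matrix.SpecialLinearGroup (Fin 2) F} (hA : IsInv A) (hB : IsInv B) :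
    ∃ C : Matrix.SpecialLinearGroup (Fin 2) F, IsInv C ∧ Odd (orderOf (proj (A * C))) ∧
      Odd (orderOf (proj (C * B))) := by
  by_cases hs : ((A : Matrix (Fin 2) (Fin 2) F) * (B : Matrix (Fin 2) (Fin 2) F)).trace ^ 2 = 4
  · refine ⟨B, hB, odd_of_trace_sq_four h2 ?_, hB.odd_self⟩
    rw [Matrix.SpecialLinearGroup.coe_mul]
    exact hs
  · have hne : (2 : F) -
        ((A : Matrix (Fin 2) (Fin 2) F) * (B : Matrix (Fin 2) (Fin 2) F)).trace ≠ 0 := by
      intro h
      apply hs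
      have : ((A : Matrix (Fin 2) (Fin 2) F) * (B : Matrix (Fin 2) (Fin 2) F)).trace = 2 := by
        linear_combination -h
      rw [this]
      norm_num
    obtain ⟨s, hs'⟩ : ∃ s : F,
        s = ((A : Matrix (Fin 2) (Fin 2) F) * (B : Matrix (Fin 2) (Fin 2) F)).trace := ⟨_, rfl⟩
    rw [← hs'] at hne
    have hdet := det_comb h2 hA.1 A.2 hB.1 B.2 (-2 * (2 - s)⁻¹) (-2 * (2 - s)⁻¹) (i * (2 - s)⁻¹)
    rw [← hs'] at hdet
    have hdet1 : (-2 * (2 - s)⁻¹) ^ 2 + (-2 * (2 - s)⁻¹) ^ 2 -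
        s * (-2 * (2 - s)⁻¹) * (-2 * (2 - s)⁻¹) - (i * (2 - s)⁻¹) ^ 2 * (s ^ 2 - 4) = 1 := by
      field_simp
      linear_combination (-(s ^ 2 - 4)) * hi
    rw [hdet1] at hdet
    obtain ⟨C, hC⟩ : ∃ C : Matrix.SpecialLinearGroup (Fin 2) F,
        (C : Matrix (Fin 2) (Fin 2) F) = (-2 * (2 - s)⁻¹) • (A : Matrix (Fin 2) (Fin 2) F) +
          (-2 * (2 - s)⁻¹) • (B : Matrix (Fin 2) (Fin 2) F) + (i * (2 - s)⁻¹) •
          ((A : Matrix (Fin 2) (Fin 2) F) * (B : Matrix (Fin 2) (Fin 2) F) -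
            (B : Matrix (Fin 2) (Fin 2) F) * (A : Matrix (Fin 2) (Fin 2) F)) := ⟨⟨_, hdet⟩, rfl⟩
    refine ⟨C, isInv_of_trace_zero h2 ?_, odd_of_trace_sq_four h2 ?_, odd_of_trace_sq_four h2 ?_⟩
    · rw [hC]
      exact trace_comb hA.1 hB.1 _ _ _
    · rw [Matrix.SpecialLinearGroup.coe_mul, hC, trace_mul_comb hA.1 A.2 hB.1, ← hs']
      have : -2 * (-2 * (2 - s)⁻¹) + s * (-2 * (2 - s)⁻¹) = 2 := by
        field_simp
        ring
      rw [this]
      norm_num
    · rw [Matrix.SpecialLinearGroup.coe_mul, hC, trace_comb_mul hA.1 hB.1 B.2, ← hs']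
      have : s * (-2 * (2 - s)⁻¹) - 2 * (-2 * (2 - s)⁻¹) = 2 := by
        field_simp
        ring
      rw [this]
      norm_num

end Cfsg.Agent.Lib.Helper6.PSL2Inv
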