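import Cfsg.Agent.Lib.Helper6.PSL2Inv.CharSum
import Cfsg.Agent.Lib.Helper6.PSL2Inv.Odd1

set_option autoImplicit false

/-! # Odd characteristic, `-1` not a square: any two involutions have a common neighbour -/

namespace Cfsg.Agent.Lib.Helper6.PSL2Inv

open Matrix

variable {F : Type*} [Field F] [Fintype F] [DecidableEq F]

/-- half the order of the field is odd when `-1` is not a square -/
theorem odd_card_div_two (hm1 : ¬IsSquare (-1 : F)) : Odd (Fintype.card F / 2) := by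
  have h := (not_congr FiniteField.isSquare_neg_one_iff).mp hm1
  push Not at h
  rw [Nat.odd_iff]
  omega

/-- **split criterion**: an element with trace `l + l⁻¹`, `l ^ 2 ≠ 1`, has an image of odd order
when `-1` is not a square -/
theorem odd_of_trace_split (hF : ringChar F ≠ 2) (hm1 : ¬IsSquare (-1 : F))
    {M : Matrix.SpecialLinearGroup (Fin 2) F} {l : F} (hl : l ≠ 0)
    (ht : (M : Matrix (Fin 2) (Fin 2) F).trace = l + l⁻¹) (hl2 : l ^ 2 ≠ 1) :
    Odd (orderOf (proj M)) :=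
  odd_orderOf_proj (odd_card_div_two hm1)
    (pow_of_trace_split M.2 hl ht hl2 (FiniteField.pow_dichotomy hF hl))

/-- an element whose trace `s` has `s ^ 2 - 4` a square has an image of odd order -/
theorem odd_of_disc_sq (hF : ringChar F ≠ 2) (hm1 : ¬IsSquare (-1 : F))
    {M : Matrix.SpecialLinearGroup (Fin 2) F}
    (h : IsSquare ((M : Matrix (Fin 2) (Fin 2) F).trace ^ 2 - 4)) : Odd (orderOf (proj M)) := by
  have h2 : (2 : F) ≠ 0 := Ring.two_ne_zero hF
  obtain ⟨d, hd⟩ := h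
  by_cases hd0 : d = 0
  · apply odd_of_trace_sq_four h2
    rw [hd0, mul_zero] at hd
    linear_combination hd
  · obtain ⟨s, hs⟩ : ∃ s : F, s = (M : Matrix (Fin 2) (Fin 2) F).trace := ⟨_, rfl⟩
    rw [← hs] at hd
    have hprod : ((s + d) / 2) * ((s - d) / 2) = 1 := by
      field_simp
      linear_combination hd
    have hl : (s + d) / 2 ≠ 0 := left_ne_zero_of_mul_eq_one hprod
    have hinv : ((s + d) / 2)⁻¹ = (s - d) / 2 := inv_eq_of_mul_eq_one_right hprod
    apply odd_of_trace_split hF hm1 hl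
    · rw [hinv, ← hs]
      field_simp
      ring
    · intro h1
      apply hd0
      have h3 : (s + d) / 2 = (s - d) / 2 := by
        rw [← hinv]
        apply eq_inv_of_mul_eq_one_left
        rw [← pow_two]
        exact h1
      field_simp at h3
      have : 2 * d = 0 := by linear_combination h3
      rcases mul_eq_zero.mp this with h | h
      · exact absurd h h2
      · exact h

/-- **`-1` not a square**: any two involutions have a common neighbour -/
theorem exists_common_of_neg_one_not_sq (hF : ringChar F ≠ 2) (hq : 3 < Fintype.card F)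
    (hm1 : ¬IsSquare (-1 : F)) {A B : Matrix.SpecialLinearGroup (Fin 2) F} (hA : IsInv A)
    (hB : IsInv B) :
    ∃ C : Matrix.SpecialLinearGroup (Fin 2) F, IsInv C ∧ Odd (orderOf (proj (A * C))) ∧
      Odd (orderOf (proj (C * B))) := by
  have h2 : (2 : F) ≠ 0 := Ring.two_ne_zero hF
  obtain ⟨s, hs⟩ : ∃ s : F,
      s = ((A : Matrix (Fin 2) (Fin 2) F) * (B : Matrix (Fin 2) (Fin 2) F)).trace := ⟨_, rfl⟩
  by_cases hsq : IsSquare (s ^ 2 - 4)
  · refine ⟨B, hB, odd_of_disc_sq hF hm1 ?_, hB.odd_self⟩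
    rw [Matrix.SpecialLinearGroup.coe_mul, ← hs]
    exact hsq
  · obtain ⟨a, b, ha, hb, ⟨u, hu⟩, hns⟩ := exists_pair hF hq hm1 s hsq
    have hu0 : u ≠ 0 := by
      intro h
      rw [h, mul_zero] at hu
      exact mul_ne_zero ha hb hu
    have hφa := quad_ne_zero hsq a
    have hφb := quad_ne_zero hsq b
    have hbu : b = u * u * a⁻¹ := by
      rw [← hu]
      field_simp
    -- the two parameters
    have hu2 : u ^ 2 ≠ 1 := by
      intro h
      apply hns
      have hb' : b = a⁻¹ := by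
        rw [hbu, ← pow_two, h, one_mul]
      refine ⟨(a ^ 2 + s * a + 1) * a⁻¹, ?_⟩
      rw [hb']
      field_simp
      ring
    have hv0 : a * u⁻¹ ≠ 0 := mul_ne_zero ha (inv_ne_zero hu0)
    have hv2 : (a * u⁻¹) ^ 2 ≠ 1 := by
      intro h
      apply hns
      have hab : b = a := by
        rw [hbu]
        field_simp at h
        field_simp
        linear_combination -h
      rw [hab]
      exact ⟨a ^ 2 + s * a + 1, rfl⟩
    -- the Gram determinant is a square
    have hneg : IsSquare (-((a ^ 2 + s * a + 1) * (b ^ 2 + s * b + 1))) := by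
      rw [← quadraticChar_one_iff_isSquare (neg_ne_zero.mpr (mul_ne_zero hφa hφb)), neg_eq_neg_one_mul,
        map_mul, quadraticChar_neg_one_iff_not_isSquare.mpr hm1,
        quadraticChar_neg_one_iff_not_isSquare.mpr hns]
      norm_num
    obtain ⟨r, hr⟩ := hneg
    obtain ⟨t1, ht1⟩ : ∃ t1 : F, t1 = u + u⁻¹ := ⟨_, rfl⟩
    obtain ⟨t2, ht2⟩ : ∃ t2 : F, t2 = a * u⁻¹ + (a * u⁻¹)⁻¹ := ⟨_, rfl⟩
    have hw : (r * u⁻¹) * (r * u⁻¹) = 4 - s ^ 2 - t1 ^ 2 - t2 ^ 2 - s * t1 * t2 := by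
      have : (r * u⁻¹) * (r * u⁻¹) = (r * r) * (u⁻¹) ^ 2 := by ring
      rw [this, ← hr, ht1, ht2, hbu]
      field_simp
      ring
    obtain ⟨w, hw'⟩ : ∃ w : F, w = r * u⁻¹ := ⟨_, rfl⟩
    rw [← hw'] at hw
    have hΔ : (4 : F) - s ^ 2 ≠ 0 := by
      intro h
      apply hsq
      have : s ^ 2 - 4 = 0 := by linear_combination -h
      rw [this]
      exact IsSquare.zero
    have hdet := det_comb h2 hA.1 A.2 hB.1 B.2 ((-2 * t1 - s * t2) / (4 - s ^ 2))
      ((-s * t1 - 2 * t2) / (4 - s ^ 2)) (w / (4 - s ^ 2))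
    rw [← hs] at hdet
    have hdet1 : ((-2 * t1 - s * t2) / (4 - s ^ 2)) ^ 2 + ((-s * t1 - 2 * t2) / (4 - s ^ 2)) ^ 2 -
        s * ((-2 * t1 - s * t2) / (4 - s ^ 2)) * ((-s * t1 - 2 * t2) / (4 - s ^ 2)) -
        (w / (4 - s ^ 2)) ^ 2 * (s ^ 2 - 4) = 1 := by
      field_simp
      linear_combination (4 - s ^ 2) * hw
    rw [hdet1] at hdet
    obtain ⟨C, hC⟩ : ∃ C : Matrix.SpecialLinearGroup (Fin 2) F,
        (C : Matrix (Fin 2) (Fin 2) F) =
          ((-2 * t1 - s * t2) / (4 - s ^ 2)) • (A : Matrix (Fin 2) (Fin 2) F) +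
          ((-s * t1 - 2 * t2) / (4 - s ^ 2)) • (B : Matrix (Fin 2) (Fin 2) F) +
          (w / (4 - s ^ 2)) •
          ((A : Matrix (Fin 2) (Fin 2) F) * (B : Matrix (Fin 2) (Fin 2) F) -
            (B : Matrix (Fin 2) (Fin 2) F) * (A : Matrix (Fin 2) (Fin 2) F)) := ⟨⟨_, hdet⟩, rfl⟩
    refine ⟨C, isInv_of_trace_zero h2 ?_, odd_of_trace_split hF hm1 hu0 ?_ hu2,
      odd_of_trace_split hF hm1 hv0 ?_ hv2⟩
    · rw [hC]
      exact trace_comb hA.1 hB.1 _ _ _
    · rw [Matrix.SpecialLinearGroup.coe_mul, hC, trace_mul_comb hA.1 A.2 hB.1, ← hs, ← ht1]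
      field_simp
      ring
    · rw [Matrix.SpecialLinearGroup.coe_mul, hC, trace_comb_mul hA.1 hB.1 B.2, ← hs, ← ht2]
      field_simp
      ring

end Cfsg.Agent.Lib.Helper6.PSL2Inv
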