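import Cfsg.Agent.Lib.Helper6.PSL2Inv.Char2
import Cfsg.Agent.Lib.Helper6.PSL2Inv.Odd3

set_option autoImplicit false

/-! # Involutions of `PSL(2, F)`: common neighbours and non-adjacent pairs -/

namespace Cfsg.Agent.Lib.Helper6.PSL2Inv

open Matrix

variable {F : Type*} [Field F] [Fintype F]

/-- **any two involutions have a common neighbour** (possibly one of them) -/
theorem exists_common (hq : 4 ≤ Fintype.card F) {A B : Matrix.SpecialLinearGroup (Fin 2) F}
    (hA : IsInv A) (hB : IsInv B) :
    ∃ C : Matrix.SpecialLinearGroup (Fin 2) F, IsInv C ∧ Odd (orderOf (proj (A * C))) ∧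
      Odd (orderOf (proj (C * B))) := by
  classical
  by_cases hF : ringChar F = 2
  · haveI : CharP F 2 := hF ▸ ringChar.charP F
    exact exists_common_char_two hA hB
  · by_cases hm1 : IsSquare (-1 : F)
    · obtain ⟨i, hi⟩ := hm1
      exact exists_common_of_neg_one_sq (Ring.two_ne_zero hF) hi.symm hA hB
    · exact exists_common_of_neg_one_not_sq hF (by omega) hm1 hA hB

/-- a lift of an involution whose product with the standard involution is again one -/
theorem exists_nonadj_Jm (hq : 4 ≤ Fintype.card F) :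
    ∃ C : Matrix.SpecialLinearGroup (Fin 2) F, IsInv C ∧ IsInv (Jm * C) := by
  classical
  by_cases hF : ringChar F = 2
  · haveI : CharP F 2 := hF ▸ ringChar.charP F
    have h2 : (2 : F) = 0 := two_eq_zero_of_charP
    obtain ⟨l, -, hl⟩ : ∃ l ∈ (Finset.univ : Finset F), l ∉ ({0, 1} : Finset F) := by
      apply Finset.exists_mem_notMem_of_card_lt_card
      rw [Finset.card_univ]
      have : ({0, 1} : Finset F).card ≤ 2 := Finset.card_le_two
      omega
    rw [Finset.mem_insert, Finset.mem_singleton, not_or] at hl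
    obtain ⟨hl0, hl1⟩ := hl
    have hl1' : 1 + l ≠ 0 := by
      intro h
      apply hl1
      linear_combination h - h2
    have hdet : (!![1 + l, l; l, 1 + l] : Matrix (Fin 2) (Fin 2) F).det = 1 := by
      rw [Matrix.det_fin_two_of]
      linear_combination l * h2
    obtain ⟨C, hC⟩ : ∃ C : Matrix.SpecialLinearGroup (Fin 2) F,
        (C : Matrix (Fin 2) (Fin 2) F) = !![1 + l, l; l, 1 + l] := ⟨⟨_, hdet⟩, rfl⟩
    refine ⟨C, ⟨?_, ?_, ?_⟩, ⟨?_, ?_, ?_⟩⟩
    · rw [hC, Matrix.trace_fin_two_of]
      linear_combination (1 + l) * h2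
    · intro h
      rw [hC] at h
      have := congrFun (congrFun h 0) 1
      simp at this
      exact hl0 this
    · intro h
      rw [hC] at h
      have := congrFun (congrFun h 0) 1
      simp at this
      exact hl0 this
    · rw [Matrix.SpecialLinearGroup.coe_mul, hC, Jm_coe, Matrix.mul_fin_two,
        Matrix.trace_fin_two_of]
      ring
    · intro h
      rw [Matrix.SpecialLinearGroup.coe_mul, hC, Jm_coe, Matrix.mul_fin_two] at h
      have := congrFun (congrFun h 1) 0
      simp at this
      exact hl1' this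
    · intro h
      rw [Matrix.SpecialLinearGroup.coe_mul, hC, Jm_coe, Matrix.mul_fin_two] at h
      have := congrFun (congrFun h 1) 0
      simp at this
      exact hl1' this
  · have h2 : (2 : F) ≠ 0 := Ring.two_ne_zero hF
    obtain ⟨a, b, hab⟩ := exists_sq_add_sq (-1 : F)
    have hdet : (!![a, b; b, -a] : Matrix (Fin 2) (Fin 2) F).det = 1 := by
      rw [Matrix.det_fin_two_of]
      linear_combination -hab
    obtain ⟨C, hC⟩ : ∃ C : Matrix.SpecialLinearGroup (Fin 2) F,
        (C : Matrix (Fin 2) (Fin 2) F) = !![a, b; b, -a] := ⟨⟨_, hdet⟩, rfl⟩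
    refine ⟨C, isInv_of_trace_zero h2 ?_, isInv_of_trace_zero h2 ?_⟩
    · rw [hC, Matrix.trace_fin_two_of]
      ring
    · rw [Matrix.SpecialLinearGroup.coe_mul, hC, Jm_coe, Matrix.mul_fin_two,
        Matrix.trace_fin_two_of]
      ring

/-- **every involution has a non-neighbour**: a lift of an involution whose product with the
given one is again a lift of an involution -/
theorem exists_nonadj (hq : 4 ≤ Fintype.card F) {A : Matrix.SpecialLinearGroup (Fin 2) F}
    (hA : IsInv A) : ∃ C : Matrix.SpecialLinearGroup (Fin 2) F, IsInv C ∧ IsInv (A * C) := by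
  obtain ⟨P, hP⟩ := hA.exists_conj_Jm
  obtain ⟨C, hC, hJC⟩ := exists_nonadj_Jm (F := F) hq
  refine ⟨P * C * P⁻¹, hC.conj P, ?_⟩
  have : A * (P * C * P⁻¹) = P * (Jm * C) * P⁻¹ := by
    rw [hP]
    group
  rw [this]
  exact hJC.conj P

end Cfsg.Agent.Lib.Helper6.PSL2Inv
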