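import Cfsg.Agent.Lib.Helper6.PSL2Inv.Basic

set_option autoImplicit false

/-! # Criteria for an element of `PSL(2, F)` to have odd order -/

namespace Cfsg.Agent.Lib.Helper6.PSL2Inv

open Matrix

variable {F : Type*} [Field F]

/-- if an odd power of a matrix is `±1` then its image has odd order -/
theorem odd_orderOf_proj {M : Matrix.SpecialLinearGroup (Fin 2) F} {n : ℕ} (hn : Odd n)
    (h : (M : Matrix (Fin 2) (Fin 2) F) ^ n = 1 ∨ (M : Matrix (Fin 2) (Fin 2) F) ^ n = -1) :
    Odd (orderOf (proj M)) := by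
  have h1 : proj M ^ n = 1 := by
    rw [← map_pow, proj_eq_one_iff, Matrix.SpecialLinearGroup.coe_pow]
    exact h
  exact Odd.of_dvd_nat hn (orderOf_dvd_of_pow_eq_one h1)

/-- powers of a unipotent matrix -/
theorem pow_of_sq_zero {N : Matrix (Fin 2) (Fin 2) F} (hN : N * N = 0) (e : F) (n : ℕ) :
    (e • (1 : Matrix (Fin 2) (Fin 2) F) + N) ^ (n + 1) =
      e ^ (n + 1) • (1 : Matrix (Fin 2) (Fin 2) F) + ((n + 1 : ℕ) * e ^ n) • N := by
  induction n with
  | zero => simp
  | succ n ih =>
    rw [pow_succ, ih]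
    simp only [add_mul, mul_add, smul_mul_assoc, mul_smul_comm, one_mul, mul_one, hN, smul_zero,
      add_zero]
    push_cast
    module

/-- **unipotent criterion**: in odd characteristic `p`, a matrix of determinant one and trace `±2`
has `p`-th power `±1` -/
theorem pow_char_of_trace_sq {M : Matrix (Fin 2) (Fin 2) F} (hd : M.det = 1)
    (ht : M.trace ^ 2 = 4) (p : ℕ) [CharP F p] (hp : p ≠ 0) (hodd : Odd p) :
    M ^ p = 1 ∨ M ^ p = -1 := by
  have h1 : (M.trace - 2) * (M.trace + 2) = 0 := by linear_combination ht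
  obtain ⟨e, he, hte⟩ : ∃ e : F, (e = 1 ∨ e = -1) ∧ M.trace = 2 * e := by
    rcases mul_eq_zero.mp h1 with h | h
    · exact ⟨1, Or.inl rfl, by linear_combination h⟩
    · exact ⟨-1, Or.inr rfl, by linear_combination h⟩
  have he2 : e * e = 1 := by rcases he with rfl | rfl <;> simp
  have hN : (M - e • (1 : Matrix (Fin 2) (Fin 2) F)) * (M - e • (1 : Matrix (Fin 2) (Fin 2) F))
      = 0 := by
    simp only [sub_mul, mul_sub, smul_mul_assoc, mul_smul_comm, one_mul, mul_one, smul_sub,
      smul_smul, he2, one_smul]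
    rw [mul_self_eq, hd, hte, one_smul]
    rw [show (2 * e) • M = e • M + e • M by rw [← add_smul]; congr 1; ring]
    abel
  obtain ⟨n, rfl⟩ : ∃ n, p = n + 1 := Nat.exists_eq_succ_of_ne_zero hp
  have hM : M = e • (1 : Matrix (Fin 2) (Fin 2) F) + (M - e • (1 : Matrix (Fin 2) (Fin 2) F)) := by
    abel
  rw [hM, pow_of_sq_zero hN]
  have hz : ((n + 1 : ℕ) : F) = 0 := CharP.cast_eq_zero F (n + 1)
  rw [hz, zero_mul, zero_smul, add_zero]
  rcases he with rfl | rfl
  · left
    simp
  · right
    rw [Odd.neg_one_pow hodd]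
    simp

/-- **split criterion**: a matrix of determinant one and trace `l + l⁻¹` with `l ^ 2 ≠ 1` has
`n`-th power `±1` as soon as `l ^ n = ±1` -/
theorem pow_of_trace_split {M : Matrix (Fin 2) (Fin 2) F} (hd : M.det = 1) {l : F} (hl : l ≠ 0)
    (ht : M.trace = l + l⁻¹) (hl2 : l ^ 2 ≠ 1) {n : ℕ} (hn : l ^ n = 1 ∨ l ^ n = -1) :
    M ^ n = 1 ∨ M ^ n = -1 := by
  obtain ⟨e, he, hle⟩ : ∃ e : F, (e = 1 ∨ e = -1) ∧ l ^ n = e := by
    rcases hn with h | h
    · exact ⟨1, Or.inl rfl, h⟩
    · exact ⟨-1, Or.inr rfl, h⟩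
  have he2 : e * e = 1 := by rcases he with rfl | rfl <;> simp
  have hle' : l⁻¹ ^ n = e := by
    rw [inv_pow, hle]
    exact inv_eq_of_mul_eq_one_left he2
  have hne : l - l⁻¹ ≠ 0 := by
    intro h
    apply hl2
    field_simp at h
    linear_combination h
  have hr1 : Polynomial.X - Polynomial.C l ∣ (Polynomial.X ^ n - Polynomial.C e : Polynomial F) := by
    rw [Polynomial.dvd_iff_isRoot]
    simp [hle]
  have hr2 : Polynomial.X - Polynomial.C l⁻¹ ∣
      (Polynomial.X ^ n - Polynomial.C e : Polynomial F) := by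
    rw [Polynomial.dvd_iff_isRoot]
    simp only [Polynomial.IsRoot.def, Polynomial.eval_sub, Polynomial.eval_pow, Polynomial.eval_X,
      Polynomial.eval_C, hle', sub_self]
  have hcop : IsCoprime (Polynomial.X - Polynomial.C l : Polynomial F)
      (Polynomial.X - Polynomial.C l⁻¹) :=
    Polynomial.isCoprime_X_sub_C_of_isUnit_sub (isUnit_iff_ne_zero.mpr hne)
  obtain ⟨g, hg⟩ := hcop.mul_dvd hr1 hr2
  have h2 := congrArg (Polynomial.aeval M) hg
  simp only [map_sub, map_mul, map_pow, Polynomial.aeval_X, Polynomial.aeval_C,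
    Algebra.algebraMap_eq_smul_one] at h2
  have hexp : ∀ a b : F, (M - a • (1 : Matrix (Fin 2) (Fin 2) F)) *
      (M - b • (1 : Matrix (Fin 2) (Fin 2) F)) =
      M * M - (a + b) • M + (a * b) • (1 : Matrix (Fin 2) (Fin 2) F) := by
    intro a b
    simp only [sub_mul, mul_sub, smul_mul_assoc, mul_smul_comm, one_mul, mul_one]
    module
  have hz : (M - l • (1 : Matrix (Fin 2) (Fin 2) F)) * (M - l⁻¹ • (1 : Matrix (Fin 2) (Fin 2) F))
      = 0 := by
    rw [hexp, mul_inv_cancel₀ hl, mul_self_eq, hd, ht, one_smul]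
    abel
  rw [hz, zero_mul, sub_eq_zero] at h2
  rw [h2]
  rcases he with rfl | rfl
  · left; simp
  · right; simp

/-- powers of a matrix of determinant one are combinations of the matrix and the identity -/
theorem pow_mem_span {M : Matrix (Fin 2) (Fin 2) F} (hd : M.det = 1) (k : ℕ) :
    ∃ a b : F, M ^ k = a • M + b • (1 : Matrix (Fin 2) (Fin 2) F) := by
  induction k with
  | zero => exact ⟨0, 1, by simp⟩
  | succ k ih =>
    obtain ⟨a, b, hab⟩ := ih
    refine ⟨a * M.trace + b, -a, ?_⟩
    rw [pow_succ, hab, add_mul, smul_mul_assoc, smul_mul_assoc, one_mul, mul_self_eq, hd, one_smul,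
      smul_sub, smul_smul, add_smul, neg_smul]
    abel

/-- **criterion in characteristic two**: an element of nonzero trace has odd order -/
theorem odd_orderOf_of_trace_ne_zero [Finite F] [CharP F 2]
    {M : Matrix.SpecialLinearGroup (Fin 2) F}
    (ht : (M : Matrix (Fin 2) (Fin 2) F).trace ≠ 0) : Odd (orderOf M) := by
  classical
  have : Fintype F := Fintype.ofFinite F
  by_contra hodd
  rw [Nat.not_odd_iff_even] at hodd
  obtain ⟨k, hk⟩ := hodd
  have hpos : 0 < orderOf M := orderOf_pos M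
  have hk0 : 0 < k := by omega
  have hN2 : (M ^ k) * (M ^ k) = 1 := by
    rw [← pow_add, ← hk]
    exact pow_orderOf_eq_one M
  have hN1 : M ^ k ≠ 1 := by
    intro h
    have := orderOf_le_of_pow_eq_one hk0 h
    omega
  obtain ⟨a, b, hab⟩ := pow_mem_span M.2 k
  have hNm : ((M ^ k : Matrix.SpecialLinearGroup (Fin 2) F) : Matrix (Fin 2) (Fin 2) F) =
      a • (M : Matrix (Fin 2) (Fin 2) F) + b • (1 : Matrix (Fin 2) (Fin 2) F) := by
    rw [Matrix.SpecialLinearGroup.coe_pow, hab]
  have h2 : (2 : F) = 0 := by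
    have := CharP.cast_eq_zero F 2
    exact_mod_cast this
  have hsq := congrArg (fun X : Matrix.SpecialLinearGroup (Fin 2) F =>
    (X : Matrix (Fin 2) (Fin 2) F)) hN2
  simp only [Matrix.SpecialLinearGroup.coe_mul, Matrix.SpecialLinearGroup.coe_one] at hsq
  rw [mul_self_eq, (M ^ k).2, one_smul] at hsq
  have htr : ((M ^ k : Matrix.SpecialLinearGroup (Fin 2) F) : Matrix (Fin 2) (Fin 2) F).trace
      = 0 := by
    by_contra hne
    have h3 : ((M ^ k : Matrix.SpecialLinearGroup (Fin 2) F) : Matrix (Fin 2) (Fin 2) F).trace •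
        ((M ^ k : Matrix.SpecialLinearGroup (Fin 2) F) : Matrix (Fin 2) (Fin 2) F) = 0 := by
      rw [sub_eq_iff_eq_add] at hsq
      rw [hsq, ← two_smul F (1 : Matrix (Fin 2) (Fin 2) F), h2, zero_smul]
    rw [smul_eq_zero] at h3
    rcases h3 with h3 | h3
    · exact hne h3
    · have hd := (M ^ k).2
      rw [h3] at hd
      simp at hd
  rw [hNm, Matrix.trace_add, Matrix.trace_smul, Matrix.trace_smul, Matrix.trace_one,
    Fintype.card_fin] at htr
  have ha : a = 0 := by
    have : a * (M : Matrix (Fin 2) (Fin 2) F).trace = 0 := by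
      simp only [smul_eq_mul] at htr
      have h2' : ((2 : ℕ) : F) = 0 := by exact_mod_cast h2
      rw [h2', mul_zero, add_zero] at htr
      exact htr
    rcases mul_eq_zero.mp this with h | h
    · exact h
    · exact absurd h ht
  rw [ha, zero_smul, zero_add] at hNm
  have hd := (M ^ k).2
  rw [hNm, Matrix.det_smul, Matrix.det_one, Fintype.card_fin, mul_one] at hd
  have hb : b = 1 := by
    have h3 : (b + 1) * (b + 1) = 0 := by
      have : (b + 1) * (b + 1) = b ^ 2 + 2 * b + 1 := by ring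
      rw [this, hd, h2, zero_mul, add_zero, one_add_one_eq_two, h2]
    have h4 : b + 1 = 0 := by
      rcases mul_eq_zero.mp h3 with h | h <;> exact h
    have h5 : b = -1 := by linear_combination h4
    rw [h5]
    have : (-1 : F) = 1 := by
      have : (1 : F) + 1 = 0 := by rw [one_add_one_eq_two, h2]
      linear_combination -this
    exact this
  apply hN1
  apply Subtype.ext
  rw [hNm, hb, one_smul, Matrix.SpecialLinearGroup.coe_one]

end Cfsg.Agent.Lib.Helper6.PSL2Inv
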