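import Cfsg.Agent.Lib.Helper6.PSL2Inv.Conj

set_option autoImplicit false

/-! # The algebra spanned by two matrices of trace zero and determinant one -/

namespace Cfsg.Agent.Lib.Helper6.PSL2Inv

open Matrix

variable {F : Type*} [Field F] {A B : Matrix (Fin 2) (Fin 2) F}

theorem trace_mul_self_of (hA : A.trace = 0) (hAd : A.det = 1) : (A * A).trace = -2 := by
  rw [mul_self_of_trace_zero hA hAd, Matrix.trace_neg, Matrix.trace_one, Fintype.card_fin]
  norm_num

/-- the commutator in terms of the product -/
theorem comm_eq (hA : A.trace = 0) (hB : B.trace = 0) :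
    A * B - B * A = (2 : F) • (A * B) - (A * B).trace • (1 : Matrix (Fin 2) (Fin 2) F) := by
  have h := anticomm hA hB
  have h2 : B * A = (A * B).trace • (1 : Matrix (Fin 2) (Fin 2) F) - A * B := by
    rw [← h]; abel
  rw [h2, two_smul]
  abel

theorem trace_comm : (A * B - B * A).trace = 0 := by
  rw [Matrix.trace_sub, Matrix.trace_mul_comm, sub_self]

theorem trace_mul_comm_left (hA : A.trace = 0) (hAd : A.det = 1) (hB : B.trace = 0) :
    (A * (A * B - B * A)).trace = 0 := by
  rw [mul_sub, Matrix.trace_sub, ← mul_assoc, mul_self_of_trace_zero hA hAd,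
    Matrix.trace_mul_comm A (B * A), mul_assoc, mul_self_of_trace_zero hA hAd]
  simp [hB]

theorem trace_mul_comm_right (hA : A.trace = 0) (hB : B.trace = 0) (hBd : B.det = 1) :
    (B * (A * B - B * A)).trace = 0 := by
  rw [mul_sub, Matrix.trace_sub, ← mul_assoc B B A, mul_self_of_trace_zero hB hBd,
    Matrix.trace_mul_comm B (A * B), mul_assoc, mul_self_of_trace_zero hB hBd]
  simp [hA]

/-- the square of the commutator -/
theorem comm_mul_self (hA : A.trace = 0) (hAd : A.det = 1) (hB : B.trace = 0) (hBd : B.det = 1) :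
    (A * B - B * A) * (A * B - B * A) =
      ((A * B).trace ^ 2 - 4) • (1 : Matrix (Fin 2) (Fin 2) F) := by
  have hMM := mul_self_eq (A * B)
  rw [Matrix.det_mul, hAd, hBd, mul_one, one_smul] at hMM
  rw [comm_eq hA hB]
  simp only [sub_mul, mul_sub, smul_mul_assoc, mul_smul_comm, one_mul, mul_one]
  rw [hMM]
  module

theorem trace_comm_mul_self (hA : A.trace = 0) (hAd : A.det = 1) (hB : B.trace = 0)
    (hBd : B.det = 1) :
    ((A * B - B * A) * (A * B - B * A)).trace = 2 * ((A * B).trace ^ 2 - 4) := by
  rw [comm_mul_self hA hAd hB hBd, Matrix.trace_smul, Matrix.trace_one, Fintype.card_fin,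
    smul_eq_mul]
  push_cast
  ring

/-- the trace of a combination -/
theorem trace_comb (hA : A.trace = 0) (hB : B.trace = 0) (α β γ : F) :
    (α • A + β • B + γ • (A * B - B * A)).trace = 0 := by
  rw [Matrix.trace_add, Matrix.trace_add, Matrix.trace_smul, Matrix.trace_smul, Matrix.trace_smul,
    hA, hB, trace_comm]
  simp

theorem trace_mul_comb (hA : A.trace = 0) (hAd : A.det = 1) (hB : B.trace = 0) (α β γ : F) :
    (A * (α • A + β • B + γ • (A * B - B * A))).trace = -2 * α + (A * B).trace * β := by
  rw [mul_add, mul_add, mul_smul_comm, mul_smul_comm, mul_smul_comm, Matrix.trace_add,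
    Matrix.trace_add, Matrix.trace_smul, Matrix.trace_smul, Matrix.trace_smul,
    trace_mul_comm_left hA hAd hB, trace_mul_self_of hA hAd]
  simp only [smul_eq_mul]
  ring

theorem trace_comb_mul (hA : A.trace = 0) (hB : B.trace = 0) (hBd : B.det = 1) (α β γ : F) :
    ((α • A + β • B + γ • (A * B - B * A)) * B).trace = (A * B).trace * α - 2 * β := by
  rw [Matrix.trace_mul_comm, mul_add, mul_add, mul_smul_comm, mul_smul_comm, mul_smul_comm,
    Matrix.trace_add, Matrix.trace_add, Matrix.trace_smul, Matrix.trace_smul, Matrix.trace_smul,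
    trace_mul_comm_right hA hB hBd, trace_mul_self_of hB hBd, Matrix.trace_mul_comm B A]
  simp only [smul_eq_mul]
  ring

theorem trace_comb_mul_self (hA : A.trace = 0) (hAd : A.det = 1) (hB : B.trace = 0)
    (hBd : B.det = 1) (α β γ : F) :
    ((α • A + β • B + γ • (A * B - B * A)) * (α • A + β • B + γ • (A * B - B * A))).trace =
      -2 * α ^ 2 - 2 * β ^ 2 + 2 * (A * B).trace * α * β + γ ^ 2 * (2 * ((A * B).trace ^ 2 - 4)) := by
  have h1 := trace_mul_comm_left hA hAd hB
  have h2 := trace_mul_comm_right hA hB hBd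
  have h3 : ((A * B - B * A) * A).trace = 0 := by rw [Matrix.trace_mul_comm]; exact h1
  have h4 : ((A * B - B * A) * B).trace = 0 := by rw [Matrix.trace_mul_comm]; exact h2
  simp only [add_mul, mul_add, smul_mul_assoc, mul_smul_comm, Matrix.trace_add, Matrix.trace_smul,
    smul_eq_mul]
  rw [h1, h2, h3, h4, trace_comm_mul_self hA hAd hB hBd, trace_mul_self_of hA hAd,
    trace_mul_self_of hB hBd, Matrix.trace_mul_comm B A]
  ring

/-- the determinant of a combination -/
theorem det_comb (h2 : (2 : F) ≠ 0) (hA : A.trace = 0) (hAd : A.det = 1) (hB : B.trace = 0)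
    (hBd : B.det = 1) (α β γ : F) :
    (α • A + β • B + γ • (A * B - B * A)).det =
      α ^ 2 + β ^ 2 - (A * B).trace * α * β - γ ^ 2 * ((A * B).trace ^ 2 - 4) := by
  have h := det_of_trace_zero (trace_comb hA hB α β γ)
  rw [trace_comb_mul_self hA hAd hB hBd] at h
  apply mul_left_cancel₀ h2
  rw [h]
  ring

/-- in characteristic different from two, a matrix of trace zero is a lift of an involution -/
theorem isInv_of_trace_zero (h2 : (2 : F) ≠ 0) {C : Matrix.SpecialLinearGroup (Fin 2) F}
    (hC : (C : Matrix (Fin 2) (Fin 2) F).trace = 0) : IsInv C := by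
  refine ⟨hC, ?_, ?_⟩
  · intro h
    rw [h, Matrix.trace_one, Fintype.card_fin] at hC
    apply h2
    exact_mod_cast hC
  · intro h
    rw [h, Matrix.trace_neg, Matrix.trace_one, Fintype.card_fin, neg_eq_zero] at hC
    apply h2
    exact_mod_cast hC

end Cfsg.Agent.Lib.Helper6.PSL2Inv
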